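import Mathlib.RingTheory.Etale.StandardEtale
import Mathlib.RingTheory.TensorProduct.Maps
import Mathlib.RingTheory.Localization.Away.Basic
import Mathlib.Algebra.Category.Ring.Constructions

/-!
# Lifting standard etale algebras from a fibre
-/

set_option autoImplicit false

universe u

open Polynomial TensorProduct CategoryTheory CategoryTheory.Limits

namespace EtFibreLiftLib

variable {R A K : Type u} [CommRing R] [CommRing A] [Field K] [Algebra R A] [Algebra R K]

/-- The elements with a denominator `σ`. -/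
theorem exists_den (hK : ∀ z : K, ∃ a σ : R, algebraMap R K σ ≠ 0 ∧ z * algebraMap R K σ = algebraMap R K a)
    (F : Finset (A ⊗[R] K)) : ∃ σ : R, algebraMap R K σ ≠ 0 ∧
      ∀ z ∈ F, ∃ a : A, z * ((1 : A) ⊗ₜ[R] algebraMap R K σ) = a ⊗ₜ[R] (1 : K) := by
  classical
  have one : ∀ z : A ⊗[R] K, ∃ σ : R, algebraMap R K σ ≠ 0 ∧
      ∃ a : A, z * ((1 : A) ⊗ₜ[R] algebraMap R K σ) = a ⊗ₜ[R] (1 : K) := by
    intro z
    induction z using TensorProduct.induction_on with
    | zero => exact ⟨1, by simp, 0, by simp⟩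
    | tmul a k =>
      obtain ⟨c, σ, hσ, hc⟩ := hK k
      refine ⟨σ, hσ, c • a, ?_⟩
      rw [Algebra.TensorProduct.tmul_mul_tmul, mul_one, hc, Algebra.algebraMap_eq_smul_one,
        ← TensorProduct.smul_tmul]
    | add z w hz hw =>
      obtain ⟨σ, hσ, a, ha⟩ := hz
      obtain ⟨τ, hτ, b, hb⟩ := hw
      refine ⟨σ * τ, by rw [map_mul]; exact mul_ne_zero hσ hτ, τ • a + σ • b, ?_⟩
      have h1 : (1 : A) ⊗ₜ[R] algebraMap R K (σ * τ) =
          ((1 : A) ⊗ₜ[R] algebraMap R K σ) * ((1 : A) ⊗ₜ[R] algebraMap R K τ) := by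
        rw [Algebra.TensorProduct.tmul_mul_tmul, one_mul, map_mul]
      have hs : ∀ (r : R) (x : A), (r • x) ⊗ₜ[R] (1 : K) =
          (x ⊗ₜ[R] (1 : K)) * ((1 : A) ⊗ₜ[R] algebraMap R K r) := fun r x => by
        rw [Algebra.TensorProduct.tmul_mul_tmul, mul_one, one_mul, TensorProduct.smul_tmul,
          Algebra.algebraMap_eq_smul_one]
      rw [h1, TensorProduct.add_tmul, hs, hs, ← ha, ← hb]
      ring
  induction F using Finset.induction_on with
  | empty => exact ⟨1, by simp, by simp⟩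
  | insert z F hz ih =>
    obtain ⟨σ, hσ, hF⟩ := ih
    obtain ⟨τ, hτ, a, ha⟩ := one z
    refine ⟨τ * σ, by rw [map_mul]; exact mul_ne_zero hτ hσ, fun w hw => ?_⟩
    have h1 : (1 : A) ⊗ₜ[R] algebraMap R K (τ * σ) =
        ((1 : A) ⊗ₜ[R] algebraMap R K τ) * ((1 : A) ⊗ₜ[R] algebraMap R K σ) := by
      rw [Algebra.TensorProduct.tmul_mul_tmul, one_mul, map_mul]
    have hs : ∀ (r : R), (1 : A) ⊗ₜ[R] algebraMap R K r = (algebraMap R A r) ⊗ₜ[R] (1 : K) := fun r => by
      rw [Algebra.algebraMap_eq_smul_one (A := K), ← TensorProduct.smul_tmul,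
        Algebra.algebraMap_eq_smul_one]
    rcases Finset.mem_insert.mp hw with rfl | hw
    · refine ⟨a * algebraMap R A σ, ?_⟩
      rw [h1, ← mul_assoc, ha, hs σ, Algebra.TensorProduct.tmul_mul_tmul, one_mul]
    · obtain ⟨b, hb⟩ := hF w hw
      refine ⟨b * algebraMap R A τ, ?_⟩
      rw [h1, mul_comm ((1 : A) ⊗ₜ[R] _), ← mul_assoc, hb, hs τ,
        Algebra.TensorProduct.tmul_mul_tmul, one_mul]

/-- A standard etale pair over `A ⊗ K` lifts to a localisation of `A` at a single element of `R`. -/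
theorem exists_pair_lift
    (hK : ∀ z : K, ∃ a σ : R, algebraMap R K σ ≠ 0 ∧ z * algebraMap R K σ = algebraMap R K a)
    (P : StandardEtalePair (A ⊗[R] K)) :
    ∃ (σ : R) (_ : algebraMap R K σ ≠ 0) (lam : Localization.Away (algebraMap R A σ) →+* A ⊗[R] K)
      (Q : StandardEtalePair (Localization.Away (algebraMap R A σ))),
      (∀ a : A, lam (algebraMap A _ a) = a ⊗ₜ[R] (1 : K)) ∧
        Q.f.map lam = P.f ∧ Q.g.map lam = P.g * derivative P.f := by
  classical
  obtain ⟨σ, hσ, hF⟩ := exists_den hK (P.f.coeffs ∪ P.g.coeffs)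
  have hu : IsUnit ((algebraMap R A σ) ⊗ₜ[R] (1 : K)) := by
    rw [show (algebraMap R A σ) ⊗ₜ[R] (1 : K) = (1 : A) ⊗ₜ[R] algebraMap R K σ by
      rw [Algebra.algebraMap_eq_smul_one (A := A), TensorProduct.smul_tmul,
        Algebra.algebraMap_eq_smul_one]]
    exact (isUnit_iff_ne_zero.mpr hσ).map (Algebra.TensorProduct.includeRight : K →ₐ[R] A ⊗[R] K)
  let lam : Localization.Away (algebraMap R A σ) →+* A ⊗[R] K :=
    IsLocalization.Away.lift (algebraMap R A σ) (g := (Algebra.TensorProduct.includeLeftRingHom)) hu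
  have hlam : ∀ a : A, lam (algebraMap A _ a) = a ⊗ₜ[R] (1 : K) := fun a => IsLocalization.Away.lift_eq _ _ _
  have hrange : ∀ z ∈ P.f.coeffs ∪ P.g.coeffs, z ∈ Set.range lam := fun z hz => by
    obtain ⟨a, ha⟩ := hF z hz
    refine ⟨algebraMap A _ a * IsLocalization.Away.invSelf (algebraMap R A σ), hu.mul_left_injective ?_⟩
    change lam _ * _ = z * _
    rw [← hlam (algebraMap R A σ), ← map_mul, mul_assoc, mul_comm (IsLocalization.Away.invSelf _),
      IsLocalization.Away.mul_invSelf, mul_one, hlam, hlam, ← ha]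
    congr 1
    rw [Algebra.algebraMap_eq_smul_one (A := A), TensorProduct.smul_tmul, Algebra.algebraMap_eq_smul_one]
  have hlift : ∀ p : (A ⊗[R] K)[X], (∀ z ∈ p.coeffs, z ∈ Set.range lam) → p ∈ Polynomial.lifts lam := by
    intro p hp
    rw [Polynomial.lifts_iff_coeff_lifts]
    intro n
    by_cases h : p.coeff n = 0
    · exact ⟨0, by rw [map_zero, h]⟩
    · exact hp _ (Polynomial.coeff_mem_coeffs h)
  obtain ⟨g, hg⟩ := (Polynomial.mem_lifts _).mp
    (hlift P.g fun z hz => hrange z (Finset.mem_union_right _ hz))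
  obtain ⟨f, hf, hfm⟩ : ∃ f : (Localization.Away (algebraMap R A σ))[X], f.map lam = P.f ∧ f.Monic := by
    rcases subsingleton_or_nontrivial (A ⊗[R] K) with h | h
    · exact ⟨1, Subsingleton.elim _ _, monic_one⟩
    · obtain ⟨f, hf, -, hfm⟩ := Polynomial.lifts_and_degree_eq_and_monic
        (hlift P.f fun z hz => hrange z (Finset.mem_union_left _ hz)) P.monic_f
      exact ⟨f, hf, hfm⟩
  refine ⟨σ, hσ, lam, ⟨f, hfm, g * derivative f, g, 0, 1, by ring⟩, hlam, hf, ?_⟩
  rw [Polynomial.map_mul, hg, ← derivative_map, hf]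

/-- Base change of a standard etale algebra. -/
theorem exists_pushout {A B : Type u} [CommRing A] [CommRing B] (lam : A →+* B)
    (Q : StandardEtalePair A) (P : StandardEtalePair B) (hf : Q.f.map lam = P.f)
    (hg : Q.g.map lam = P.g * derivative P.f) :
    ∃ θ : Q.Ring →+* P.Ring, θ Q.X = P.X ∧
      IsPushout (CommRingCat.ofHom (algebraMap A Q.Ring)) (CommRingCat.ofHom lam)
        (CommRingCat.ofHom θ) (CommRingCat.ofHom (algebraMap B P.Ring)) := by
  letI algP : Algebra A P.Ring := ((algebraMap B P.Ring).comp lam).toAlgebra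
  have e : ∀ (D : Type u) [CommRing D] (φ : B →+* D) (p : A[X]) (x : D),
      eval₂ (φ.comp lam) x p = eval₂ φ x (p.map lam) := fun D _ φ p x => (eval₂_map lam φ x).symm
  have hQX : Q.HasMap (P.X : P.Ring) := by
    refine ⟨?_, ?_⟩ <;> rw [aeval_def, RingHom.algebraMap_toAlgebra, e, ← aeval_def]
    · rw [hf]; exact StandardEtalePair.hasMap_X.1
    · rw [hg, map_mul]
      exact StandardEtalePair.hasMap_X.2.mul StandardEtalePair.hasMap_X.isUnit_derivative_f
  let θ := Q.lift P.X hQX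
  have hw : CommRingCat.ofHom (algebraMap A Q.Ring) ≫ CommRingCat.ofHom θ.toRingHom =
      CommRingCat.ofHom lam ≫ CommRingCat.ofHom (algebraMap B P.Ring) :=
    CommRingCat.hom_ext θ.comp_algebraMap
  have hex : ∀ s : PushoutCocone (CommRingCat.ofHom (algebraMap A Q.Ring)) (CommRingCat.ofHom lam),
      ∃ ψ : CommRingCat.of P.Ring ⟶ s.pt, CommRingCat.ofHom θ.toRingHom ≫ ψ = s.inl ∧
        CommRingCat.ofHom (algebraMap B P.Ring) ≫ ψ = s.inr ∧ ψ P.X = s.inl Q.X := by
    intro s
    letI algD : Algebra B s.pt := s.inr.hom.toAlgebra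
    letI algA : Algebra A s.pt := (s.inl.hom.comp (algebraMap A Q.Ring)).toAlgebra
    have hcomm : (algebraMap A s.pt) = s.inr.hom.comp lam :=
      congrArg CommRingCat.Hom.hom s.condition
    let inlA : Q.Ring →ₐ[A] s.pt := { s.inl.hom with commutes' := fun _ => rfl }
    have hQ := (StandardEtalePair.hasMap_X (P := Q)).map inlA
    have hA : ∀ (p : A[X]) (x : s.pt), aeval x p = aeval x (p.map lam) := fun p x => by
      rw [aeval_def, aeval_def, hcomm, e]
      rfl
    have hP : P.HasMap (s.inl Q.X) := by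
      refine ⟨by rw [← hf, ← hA]; exact hQ.1, ?_⟩
      have h2 : IsUnit (aeval (s.inl Q.X) Q.g) := hQ.2
      rw [hA, hg, map_mul] at h2
      exact isUnit_of_mul_isUnit_left h2
    refine ⟨CommRingCat.ofHom (P.lift (s.inl Q.X) hP).toRingHom, CommRingCat.hom_ext ?_,
      CommRingCat.hom_ext (P.lift (s.inl Q.X) hP).comp_algebraMap, P.lift_X _ hP⟩
    let ψA : P.Ring →ₐ[A] s.pt :=
      { (P.lift (s.inl Q.X) hP).toRingHom with
        commutes' := fun a => by
          change P.lift _ hP (algebraMap B P.Ring (lam a)) = _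
          rw [AlgHom.commutes, hcomm]
          rfl }
    refine congrArg AlgHom.toRingHom (Q.hom_ext (f := ψA.comp θ) (g := inlA) ?_)
    change P.lift _ hP (θ Q.X) = s.inl Q.X
    rw [show θ Q.X = P.X from Q.lift_X _ _, P.lift_X]
  choose ψ hψl hψr hψX using hex
  refine ⟨θ.toRingHom, Q.lift_X _ _, ⟨⟨hw⟩, ⟨PushoutCocone.IsColimit.mk hw ψ hψl hψr fun s m hl hr => ?_⟩⟩⟩
  letI algD : Algebra B s.pt := s.inr.hom.toAlgebra
  let ma : P.Ring →ₐ[B] s.pt :=
    { m.hom with commutes' := fun b => congr($(hr) b) }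
  let mb : P.Ring →ₐ[B] s.pt :=
    { (ψ s).hom with commutes' := fun b => congr($(hψr s) b) }
  refine CommRingCat.hom_ext (congrArg AlgHom.toRingHom (P.hom_ext (f := ma) (g := mb) ?_))
  have h1 : m (θ Q.X) = s.inl Q.X := congr($(hl) Q.X)
  rw [show θ Q.X = P.X from Q.lift_X _ _] at h1
  exact h1.trans (hψX s).symm

end EtFibreLiftLib
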